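import Groth.Agent.Inertia9494.Separate
import Mathlib.FieldTheory.Galois.Infinite
import Mathlib.FieldTheory.Galois.Profinite
import Mathlib.RingTheory.DedekindDomain.Different
import Mathlib.RingTheory.Etale.StandardEtale

/-!
# Invariants of the inertia group at a finite level

`A` is an integrally closed domain with fraction field `K`, `L/K` is Galois and `q` is a prime of the
integral closure of `A` in `L`.
-/

universe u

open Polynomial Pointwise

set_option linter.style.haveILetI false

namespace Groth.Agent.Inertia9494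

variable {A K L : Type u} [CommRing A] [Field K] [Field L] [Algebra A K] [Algebra K L] [Algebra A L]
  [IsScalarTower A K L] (q : Ideal (integralClosure A L))

theorem isIntegral_apply (σ : L ≃ₐ[K] L) {x : L} (hx : IsIntegral A x) : IsIntegral A (σ x) :=
  hx.map (σ.toAlgHom.restrictScalars A)

/-- The action of `L ≃ₐ[K] L` on the integral closure of `A`. -/
noncomputable def act (σ : L ≃ₐ[K] L) : integralClosure A L →ₐ[A] integralClosure A L :=
  ((σ.toAlgHom.restrictScalars A).comp (integralClosure A L).val).codRestrict _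
    fun b => isIntegral_apply σ b.2

@[simp] theorem coe_act (σ : L ≃ₐ[K] L) (b : integralClosure A L) : (act σ b : L) = σ b := rfl

theorem act_mul (σ τ : L ≃ₐ[K] L) (b : integralClosure A L) : act (σ * τ) b = act σ (act τ b) :=
  Subtype.ext rfl

theorem act_one (b : integralClosure A L) : act (1 : L ≃ₐ[K] L) b = b := Subtype.ext rfl

/-- The inertia condition restricted to an intermediate field. -/
def InertiaOn (N : IntermediateField K L) (σ : L ≃ₐ[K] L) : Prop :=
  ∀ b : integralClosure A L, (b : L) ∈ N → act σ b - b ∈ q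

/-- The integral elements of `N` fixed by the automorphisms satisfying the inertia condition on `N`. -/
def invariants (N : IntermediateField K L) : Subalgebra A L where
  carrier := {x | x ∈ N ∧ IsIntegral A x ∧ ∀ σ : L ≃ₐ[K] L, InertiaOn q N σ → σ x = x}
  mul_mem' ha hb := ⟨mul_mem ha.1 hb.1, ha.2.1.mul hb.2.1, fun σ h => by
    rw [map_mul, ha.2.2 σ h, hb.2.2 σ h]⟩
  one_mem' := ⟨one_mem _, isIntegral_one, fun σ _ => map_one σ⟩
  add_mem' ha hb := ⟨add_mem ha.1 hb.1, ha.2.1.add hb.2.1, fun σ h => by
    rw [map_add, ha.2.2 σ h, hb.2.2 σ h]⟩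
  zero_mem' := ⟨zero_mem _, isIntegral_zero, fun σ _ => map_zero σ⟩
  algebraMap_mem' a := ⟨by
    rw [IsScalarTower.algebraMap_apply A K L]
    exact N.algebraMap_mem _, isIntegral_algebraMap, fun σ _ => by
    rw [IsScalarTower.algebraMap_apply A K L]
    exact σ.commutes _⟩

instance (N : IntermediateField K L) : Algebra.IsIntegral A (invariants q N) :=
  ⟨fun x => (isIntegral_algHom_iff (invariants q N).val Subtype.val_injective).mp x.2.2.1⟩

/-- The set of automorphisms with a given condition on the value at a point is open. -/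
theorem isOpen_setOf_apply [Algebra.IsAlgebraic K L] (b : L) (P : L → Prop) :
    IsOpen {σ : L ≃ₐ[K] L | P (σ b)} := by
  haveI : FiniteDimensional K (IntermediateField.adjoin K ({b} : Set L)) :=
    IntermediateField.adjoin.finiteDimensional (Algebra.IsIntegral.isIntegral b)
  refine isOpen_iff_forall_mem_open.mpr fun σ hσ =>
    ⟨(fun τ => σ⁻¹ * τ) ⁻¹' ((IntermediateField.adjoin K ({b} : Set L)).fixingSubgroup : Set (L ≃ₐ[K] L)),
      fun τ hτ => ?_,
      (IntermediateField.fixingSubgroup_isOpen _).preimage (continuous_const_mul _), ?_⟩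
  · have h : (σ⁻¹ * τ) b = b := (IntermediateField.mem_fixingSubgroup_iff _ _).mp hτ b
      (IntermediateField.mem_adjoin_simple_self K b)
    have : τ b = σ b := by
      conv_rhs => rw [← h]
      rw [← AlgEquiv.mul_apply, mul_inv_cancel_left]
    simpa [Set.mem_setOf_eq, this] using hσ
  · simp

variable [IsGalois K L] [q.IsPrime]

/-- Every invariant integral element is already invariant at some finite level. -/
theorem exists_level (W : Finset L) (hW : ∀ x ∈ W, IsIntegral A x ∧
    ∀ σ : L ≃ₐ[K] L, (∀ b : integralClosure A L, act σ b - b ∈ q) → σ x = x) :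
    ∃ N : IntermediateField K L, FiniteDimensional K N ∧ Normal K N ∧ ↑W ⊆ (invariants q N : Set L) := by
  classical
  let Z : Set (L ≃ₐ[K] L) := ⋃ x ∈ W, {σ | σ x ≠ x}
  have hZ : IsCompact Z := by
    refine W.finite_toSet.isCompact_biUnion fun x _ => IsClosed.isCompact ?_
    exact ⟨by simpa [Set.compl_setOf] using isOpen_setOf_apply (K := K) x (fun y => y = x)⟩
  have hopen : ∀ b : integralClosure A L, IsOpen {σ : L ≃ₐ[K] L | act σ b - b ∉ q} := fun b => by
    have h := isOpen_setOf_apply (K := K) (b : L)
      (fun y => ∀ hy : IsIntegral A y, (⟨y, hy⟩ : integralClosure A L) - b ∉ q)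
    convert h using 1
    ext σ
    exact ⟨fun h _ => h, fun h => h (act σ b).2⟩
  have hcov : Z ⊆ ⋃ b : integralClosure A L, {σ | act σ b - b ∉ q} := by
    intro σ hσ
    obtain ⟨x, hx, hσx⟩ := Set.mem_iUnion₂.mp hσ
    by_contra hc
    simp only [Set.mem_iUnion, Set.mem_setOf_eq, not_exists, not_not] at hc
    exact hσx ((hW x hx).2 σ hc)
  obtain ⟨t, ht⟩ := hZ.elim_finite_subcover _ hopen hcov
  let s : Set L := ↑(W ∪ t.image Subtype.val)
  let N := (FiniteGaloisIntermediateField.adjoin K s).toIntermediateField
  haveI : FiniteDimensional K N := (FiniteGaloisIntermediateField.adjoin K s).finiteDimensional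
  haveI : IsGalois K N := (FiniteGaloisIntermediateField.adjoin K s).isGalois
  have hsN : s ⊆ N := FiniteGaloisIntermediateField.subset_adjoin K s
  refine ⟨N, inferInstance, IsGalois.to_normal, fun x hx => ⟨hsN ?_, (hW x hx).1, fun σ hσ => ?_⟩⟩
  · exact Finset.mem_coe.mpr (Finset.mem_union_left _ hx)
  · by_contra hne
    obtain ⟨b, hb, hσb⟩ := Set.mem_iUnion₂.mp (ht (Set.mem_biUnion (Finset.mem_coe.mpr hx) hne))
    exact hσb (hσ b (hsN (Finset.mem_coe.mpr (Finset.mem_union_right _
      (Finset.mem_image_of_mem _ hb)))))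

variable (N : IntermediateField K L) [Normal K N]

omit [q.IsPrime] in
theorem inertiaOn_mul {σ τ : L ≃ₐ[K] L} (hσ : InertiaOn q N σ) (hτ : InertiaOn q N τ) :
    InertiaOn q N (σ * τ) := fun b hb => by
  have hc : (act τ b : L) ∈ N :=
    (IntermediateField.normal_iff_forall_map_le'.mp ‹Normal K N› τ) ⟨b, hb, rfl⟩
  have := q.add_mem (hσ _ hc) (hτ b hb)
  rwa [sub_add_sub_cancel, ← act_mul] at this

/-- An automorphism outside the inertia group moves some invariant element modulo `q`. -/
theorem exists_invariant_not_mem {σ : L ≃ₐ[K] L} (hσ : ¬InertiaOn q N σ) :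
    ∃ (c : integralClosure A L), (c : L) ∈ invariants q N ∧ act σ c - c ∉ q := by
  classical
  simp only [InertiaOn, not_forall] at hσ
  obtain ⟨b, hb, hσb⟩ := hσ
  let O : Set (integralClosure A L) := {y | ∃ τ : L ≃ₐ[K] L, InertiaOn q N τ ∧ act τ b = y}
  have hO : O.Finite := by
    refine ((minpoly K (b : L)).rootSet_finite L).preimage Subtype.val_injective.injOn |>.subset ?_
    rintro _ ⟨τ, _, rfl⟩
    refine (mem_rootSet_of_ne (minpoly.ne_zero (Algebra.IsIntegral.isIntegral _))).mpr ?_
    rw [coe_act]
    exact (Polynomial.aeval_algHom_apply τ.toAlgHom _ _).trans (by simp)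
  let P : (integralClosure A L)[X] := ∏ y ∈ hO.toFinset, (X - C y)
  have hbO : b ∈ O := ⟨1, fun c _ => by simp [act_one], act_one b⟩
  have hON : ∀ y ∈ O, (y : L) ∈ N := by
    rintro _ ⟨τ, _, rfl⟩
    exact (IntermediateField.normal_iff_forall_map_le'.mp ‹Normal K N› τ) ⟨b, hb, rfl⟩
  have hPq : P.map (Ideal.Quotient.mk q) = (X - C (Ideal.Quotient.mk q b)) ^ hO.toFinset.card := by
    rw [Polynomial.map_prod]
    refine (Finset.prod_congr rfl fun y hy => ?_).trans (Finset.prod_const _)
    obtain ⟨τ, hτ, rfl⟩ := hO.mem_toFinset.mp hy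
    simp [Ideal.Quotient.eq.mpr (hτ b hb)]
  have hcoe : P.map (integralClosure A L).val.toRingHom = ∏ y ∈ hO.toFinset, (X - C (y : L)) := by
    simp [P, Polynomial.map_prod]
  have hinv : ∀ n, (P.coeff n : L) ∈ invariants q N := by
    refine fun n => ⟨?_, (P.coeff n).2, fun τ hτ => ?_⟩
    · let Q : N[X] := ∏ y : hO.toFinset, (X - C (⟨_, hON y.1 (hO.mem_toFinset.mp y.2)⟩ : N))
      have hQ : Q.map N.val.toRingHom = P.map (integralClosure A L).val.toRingHom := by
        rw [hcoe, ← Finset.prod_coe_sort hO.toFinset]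
        simp [Q, Polynomial.map_prod]
      have := congrArg (fun p => p.coeff n) hQ
      simp only [coeff_map] at this
      exact (show ((Q.coeff n : N) : L) = (P.coeff n : L) from this) ▸ (Q.coeff n).2
    · have hperm : hO.toFinset.image (act τ) = hO.toFinset := by
        refine Finset.eq_of_subset_of_card_le (fun y hy => ?_) (le_of_eq ?_)
        · obtain ⟨z, hz, rfl⟩ := Finset.mem_image.mp hy
          obtain ⟨ρ, hρ, rfl⟩ := hO.mem_toFinset.mp hz
          exact hO.mem_toFinset.mpr ⟨τ * ρ, inertiaOn_mul q N hτ hρ, act_mul _ _ _⟩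
        · exact (Finset.card_image_of_injective _ fun x y hxy =>
            Subtype.ext (τ.injective (by simpa using congrArg Subtype.val hxy))).symm
      have hmap : P.map (act τ).toRingHom = P := by
        conv_rhs => rw [show P = ∏ y ∈ hO.toFinset.image (act τ), (X - C y) by rw [hperm]]
        rw [Finset.prod_image (fun x _ y _ hxy =>
          Subtype.ext (τ.injective (by simpa using congrArg Subtype.val hxy)))]
        simp [P, Polynomial.map_prod]
      have := congrArg (fun p => ((p.coeff n : integralClosure A L) : L)) hmap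
      simpa using this
  by_contra hc
  push Not at hc
  have hσP : P.map ((Ideal.Quotient.mk q).comp (act σ).toRingHom) = P.map (Ideal.Quotient.mk q) :=
    Polynomial.ext fun n => by
      simpa using Ideal.Quotient.eq.mpr (hc (P.coeff n) (hinv n))
  have h0 : P.eval b = 0 := by
    rw [eval_prod]
    exact Finset.prod_eq_zero (hO.mem_toFinset.mpr hbO) (by simp)
  have := congrArg (eval (Ideal.Quotient.mk q (act σ b))) hσP
  rw [show Ideal.Quotient.mk q (act σ b) = (Ideal.Quotient.mk q).comp (act σ).toRingHom b from rfl,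
    eval_map, eval₂_hom, h0, map_zero, hPq] at this
  simp only [eval_pow, eval_sub, eval_X, eval_C] at this
  exact hσb (Ideal.Quotient.eq.mp (sub_eq_zero.mp (eq_zero_of_pow_eq_zero this.symm)))

omit [IsGalois K L] [Normal K N] [q.IsPrime] in
theorem finite_restrict [FiniteDimensional K N] :
    (Set.range fun σ : L ≃ₐ[K] L => σ.toAlgHom.comp N.val).Finite :=
  Set.toFinite _

/-- The value of an embedding of `N` at an invariant element. -/
noncomputable def embed (φ : N →ₐ[K] L) : invariants q N →ₐ[A] integralClosure A L :=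
  ((φ.restrictScalars A).comp ((invariants q N).val.codRestrict
    (N.toSubalgebra.restrictScalars A) fun x => x.2.1)).codRestrict (integralClosure A L) fun x =>
      ((isIntegral_algHom_iff (N.val.restrictScalars A) Subtype.val_injective).mp
        (show IsIntegral A (N.val.restrictScalars A ⟨x.1, x.2.1⟩) from x.2.2.1)).map
          (φ.restrictScalars A)

/-- A generator of the invariant field whose conjugates stay distinct modulo `q`. -/
theorem exists_generator [FiniteDimensional K N] :
    ∃ θ : integralClosure A L, (θ : L) ∈ invariants q N ∧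
      ∀ σ : L ≃ₐ[K] L, ¬InertiaOn q N σ → act σ θ - θ ∉ q := by
  let ι : invariants q N →ₐ[A] integralClosure A L :=
    Subalgebra.inclusion fun x hx => hx.2.1
  let red : (N →ₐ[K] L) → (invariants q N →ₐ[A] integralClosure A L ⧸ q) := fun φ =>
    (Ideal.Quotient.mkₐ A q).comp (embed q N φ)
  have hred : ∀ (σ : L ≃ₐ[K] L) (x : invariants q N),
      red (σ.toAlgHom.comp N.val) x = Ideal.Quotient.mk q (act σ (ι x)) := fun σ x => rfl
  let S : Set (invariants q N →ₐ[A] integralClosure A L ⧸ q) :=
    red '' ((fun σ : L ≃ₐ[K] L => σ.toAlgHom.comp N.val) '' {σ | ¬InertiaOn q N σ})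
  obtain ⟨θ, hθ⟩ := exists_separating ((Ideal.Quotient.mkₐ A q).comp ι) S
    (((finite_restrict N).subset (Set.image_subset_range _ _)).image red) (by
      rintro _ ⟨_, ⟨σ, hσ, rfl⟩, rfl⟩ he
      obtain ⟨c, hc, hσc⟩ := exists_invariant_not_mem q N hσ
      have := DFunLike.congr_fun he ⟨c, hc⟩
      rw [hred] at this
      exact hσc (Ideal.Quotient.eq.mp this))
  refine ⟨ι θ, θ.2, fun σ hσ hc => hθ _ ⟨_, ⟨σ, hσ, rfl⟩, rfl⟩ ?_⟩
  rw [hred]
  exact Ideal.Quotient.eq.mpr hc

variable [IsDomain A] [IsIntegrallyClosed A] [IsFractionRing A K]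

/-- The finite level is standard étale after inverting the derivative of the minimal polynomial. -/
theorem exists_polynomial [FiniteDimensional K N] : ∃ θ : integralClosure A L,
    (θ : L) ∈ invariants q N ∧ aeval θ (derivative (minpoly A (θ : L))) ∉ q ∧
    ∀ c ∈ invariants q N, ∃ p : A[X],
      aeval (θ : L) p = aeval (θ : L) (derivative (minpoly A (θ : L))) * c := by
  classical
  obtain ⟨θ, hθ, hσ⟩ := exists_generator q N
  have hint : IsIntegral A (θ : L) := θ.2
  have hKint : IsIntegral K (θ : L) := Algebra.IsIntegral.isIntegral _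
  have hmin : minpoly K (θ : L) = (minpoly A (θ : L)).map (algebraMap A K) :=
    minpoly.isIntegrallyClosed_eq_field_fractions' K hint
  have hder : aeval (θ : L) (derivative (minpoly A (θ : L))) =
      aeval (θ : L) (derivative (minpoly K (θ : L))) := by
    rw [hmin, derivative_map, aeval_map_algebraMap]
  refine ⟨θ, hθ, ?_, fun c hc => ?_⟩
  · have hspl : ((minpoly K (θ : L)).map (algebraMap K L)).Splits := Normal.splits inferInstance _
    have hroots : ((minpoly K (θ : L)).map (algebraMap K L)).roots.Nodup :=
      Polynomial.nodup_roots (Polynomial.Separable.map (Algebra.IsSeparable.isSeparable K _))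
    have heq : ((aeval θ (derivative (minpoly A (θ : L))) : integralClosure A L) : L) =
        ((((minpoly K (θ : L)).map (algebraMap K L)).roots.erase (θ : L)).map ((θ : L) - ·)).prod := by
      rw [← Subalgebra.coe_val, ← Polynomial.aeval_algHom_apply, Subalgebra.coe_val, hder,
        ← Polynomial.eval_map_algebraMap, ← derivative_map]
      exact hspl.eval_root_derivative ((minpoly.monic hKint).map _)
        ((mem_roots ((map_monic_ne_zero (minpoly.monic hKint)))).mpr (by simp))
    intro hmem
    have hall : ∀ r ∈ (((minpoly K (θ : L)).map (algebraMap K L)).roots.erase (θ : L)),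
        ∃ σ : L ≃ₐ[K] L, σ θ = r ∧ act σ θ - θ ∉ q := by
      intro r hr
      obtain ⟨hne, hr⟩ := hroots.mem_erase_iff.mp hr
      have hr0 : aeval r (minpoly K (θ : L)) = 0 := by
        have := (mem_roots'.mp hr).2
        rwa [IsRoot.def, eval_map_algebraMap] at this
      obtain ⟨σ, hσr⟩ := (Normal.minpoly_eq_iff_mem_orbit L).mp
        (minpoly.eq_of_irreducible_of_monic (minpoly.irreducible hKint) hr0 (minpoly.monic hKint)).symm
      exact ⟨σ, hσr, hσ σ fun hin => hne (hσr ▸ hθ.2.2 σ hin)⟩
    generalize ((minpoly K (θ : L)).map (algebraMap K L)).roots.erase (θ : L) = M at heq hall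
    generalize aeval θ (derivative (minpoly A (θ : L))) = g at heq hmem
    induction M using Multiset.induction_on generalizing g with
    | empty => exact Ideal.IsPrime.ne_top ‹_› (q.eq_top_of_isUnit_mem hmem
        (by rw [show g = 1 from Subtype.ext (by simpa using heq)]; exact isUnit_one))
    | cons r M ih =>
      obtain ⟨σ, hσr, hq⟩ := hall r (Multiset.mem_cons_self _ _)
      have hi : IsIntegral A (M.map ((θ : L) - ·)).prod := IsIntegral.multiset_prod fun y hy => by
        obtain ⟨z, hz, rfl⟩ := Multiset.mem_map.mp hy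
        obtain ⟨τ, hτ, -⟩ := hall z (Multiset.mem_cons_of_mem hz)
        exact θ.2.sub (hτ ▸ isIntegral_apply τ θ.2)
      have hg : g = -(act σ θ - θ) * ⟨_, hi⟩ := Subtype.ext (by simp [heq, hσr])
      rw [hg] at hmem
      rcases Ideal.IsPrime.mem_or_mem ‹_› hmem with h | h
      · exact hq (neg_mem_iff.mp h)
      · exact ih (fun z hz => hall z (Multiset.mem_cons_of_mem hz)) ⟨_, hi⟩ rfl h
  · let M := IntermediateField.adjoin K ({(θ : L)} : Set L)
    have hcM : c ∈ M := by
      rw [← InfiniteGalois.fixedField_fixingSubgroup M, IntermediateField.mem_fixedField_iff]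
      intro σ hσM
      refine hc.2.2 σ (by_contra fun hn => hσ σ hn ?_)
      have : σ θ = θ := (IntermediateField.mem_fixingSubgroup_iff _ _).mp hσM θ
        (IntermediateField.mem_adjoin_simple_self K _)
      have h0 : act σ θ = θ := Subtype.ext this
      simp [h0]
    haveI : FiniteDimensional K M := IntermediateField.adjoin.finiteDimensional hKint
    let x : M := IntermediateField.AdjoinSimple.gen K (θ : L)
    let f : M →ₐ[A] L := M.val.restrictScalars A
    have hAx : IsIntegral A x := (isIntegral_algHom_iff f Subtype.val_injective).mp hint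
    have hadj : Algebra.adjoin K {x} = ⊤ :=
      (IntermediateField.adjoin.powerBasis hKint).adjoin_gen_eq_top
    have hcint : IsIntegral A (⟨c, hcM⟩ : M) :=
      (isIntegral_algHom_iff f Subtype.val_injective).mp hc.2.1
    have hmem : (⟨c, hcM⟩ : M) ∈ (Algebra.traceForm K M).dualSubmodule
        (Subalgebra.toSubmodule (Algebra.adjoin A {x})) := by
      intro y hy
      have hyint : IsIntegral A y := adjoin_le_integralClosure hAx hy
      obtain ⟨a, ha⟩ := IsIntegrallyClosed.isIntegral_iff.mp
        (Algebra.isIntegral_trace (R := A) (L := K) (hcint.mul hyint))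
      exact Submodule.mem_one.mpr ⟨a, ha⟩
    rw [traceForm_dualSubmodule_adjoin A K hadj hAx, Submodule.mem_smul_pointwise_iff_exists] at hmem
    obtain ⟨y, hy, hyc⟩ := hmem
    obtain ⟨p, rfl⟩ := Algebra.adjoin_singleton_eq_range_aeval A x ▸ (hy : y ∈ Algebra.adjoin A {x})
    refine ⟨p, ?_⟩
    have hD : aeval x (derivative (minpoly K x)) ≠ 0 :=
      Separable.aeval_derivative_ne_zero (Algebra.IsSeparable.isSeparable K x) (minpoly.aeval _ _)
    have hminx : minpoly K x = (minpoly A (θ : L)).map (algebraMap A K) := by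
      rw [IntermediateField.minpoly_gen, hmin]
    have h2 : aeval x p = aeval x (derivative (minpoly A (θ : L))) * (⟨c, hcM⟩ : M) := by
      rw [hminx, derivative_map, aeval_map_algebraMap] at hD hyc
      rw [← hyc, smul_eq_mul, mul_inv_cancel_left₀ hD]
      rfl
    have h3 := congrArg f h2
    rw [map_mul, ← Polynomial.aeval_algHom_apply, ← Polynomial.aeval_algHom_apply] at h3
    exact h3

end Groth.Agent.Inertia9494
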