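import Mathlib.RingTheory.IntegralDomain
import Mathlib.RingTheory.Finiteness.Basic
import Mathlib.RingTheory.IntegralClosure.IsIntegralClosure.Basic

/-!
# An element separating a finite set of algebra homomorphisms to a domain from a given one
-/

universe u

set_option linter.style.haveILetI false

namespace Groth.Agent.Inertia9494

variable {A : Type u} [CommRing A] {C Ω : Type u} [CommRing C] [Algebra A C] [CommRing Ω]
  [IsDomain Ω] [Algebra A Ω]

theorem exists_separating_infinite (hA : (Set.range (algebraMap A Ω)).Infinite) (h₀ : C →ₐ[A] Ω)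
    (S : Set (C →ₐ[A] Ω)) (hS : S.Finite) (hne : ∀ h ∈ S, h ≠ h₀) :
    ∃ θ : C, ∀ h ∈ S, h θ ≠ h₀ θ := by
  induction S, hS using Set.Finite.induction_on with
  | empty => exact ⟨0, by simp⟩
  | @insert g s hg hs ih =>
    obtain ⟨x, hx⟩ := ih fun h hh => hne h (Set.mem_insert_of_mem _ hh)
    by_cases hgx : g x = h₀ x
    swap
    · refine ⟨x, fun h hh => ?_⟩
      rcases hh with rfl | hh
      · exact hgx
      · exact hx h hh
    obtain ⟨y, hy⟩ : ∃ y, g y ≠ h₀ y := by
      by_contra hc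
      exact hne g (Set.mem_insert _ _) (AlgHom.ext fun y => not_not.mp fun hh => hc ⟨y, hh⟩)
    have hbad : (insert (0 : Ω)
        (⋃ h ∈ s, {r : Ω | h x - h₀ x + r * (h y - h₀ y) = 0})).Finite := by
      refine (hs.biUnion fun h hh => Set.Subsingleton.finite fun r hr r' hr' => ?_).insert _
      have hd : (r - r') * (h y - h₀ y) = 0 := by
        simp only [Set.mem_setOf_eq] at hr hr'
        linear_combination hr - hr'
      rcases mul_eq_zero.mp hd with h1 | h1
      · exact sub_eq_zero.mp h1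
      · exfalso
        have : h x - h₀ x + r * (h y - h₀ y) = 0 := hr
        rw [h1, mul_zero, add_zero, sub_eq_zero] at this
        exact hx h hh this
    obtain ⟨_, ⟨a, rfl⟩, ha⟩ := (hA.sdiff hbad).nonempty
    refine ⟨x + algebraMap A C a * y, fun h hh he => ?_⟩
    have he' : h x - h₀ x + algebraMap A Ω a * (h y - h₀ y) = 0 := by
      simp only [map_add, map_mul, AlgHom.commutes] at he
      linear_combination he
    rcases hh with rfl | hh
    · rw [hgx, sub_self, zero_add] at he'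
      rcases mul_eq_zero.mp he' with h1 | h1
      · exact ha (Set.mem_insert_iff.mpr (Or.inl h1))
      · exact hy (sub_eq_zero.mp h1)
    · exact ha (Set.mem_insert_of_mem _ (Set.mem_biUnion hh he'))

theorem exists_separating_finite [Algebra.IsIntegral A C] (hA : (Set.range (algebraMap A Ω)).Finite)
    (h₀ : C →ₐ[A] Ω) (S : Set (C →ₐ[A] Ω)) (hS : S.Finite) (hne : ∀ h ∈ S, h ≠ h₀) :
    ∃ θ : C, ∀ h ∈ S, h θ ≠ h₀ θ := by
  classical
  have hw : ∀ h : C →ₐ[A] Ω, ∃ x : C, h ∈ S → h x ≠ h₀ x := by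
    intro h
    by_cases hh : h ∈ S
    · by_contra hc
      exact hne h hh (AlgHom.ext fun x => not_not.mp fun e => hc ⟨x, fun _ => e⟩)
    · exact ⟨0, fun h' => absurd h' hh⟩
  choose w hw using hw
  let C₀ : Subalgebra A C := Algebra.adjoin A (w '' S)
  have hfin : Module.Finite A C₀ := Module.Finite.iff_fg.mpr
    (fg_adjoin_of_finite (hS.image w) fun x _ => Algebra.IsIntegral.isIntegral x)
  obtain ⟨n, e, he⟩ := Module.Finite.exists_fin (R := A) (M := C₀)
  have himg : ∀ f : C →ₐ[A] Ω, (Set.range fun x : C₀ => f x.1).Finite := by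
    intro f
    haveI := hA.to_subtype
    refine (Set.finite_range fun c : Fin n → Set.range (algebraMap A Ω) =>
      ∑ i, (c i).1 * f (e i).1).subset ?_
    rintro _ ⟨x, rfl⟩
    obtain ⟨c, hc⟩ := (Submodule.mem_span_range_iff_exists_fun A).mp
      (he.ge (Submodule.mem_top : x ∈ ⊤))
    refine ⟨fun i => ⟨algebraMap A Ω (c i), _, rfl⟩, ?_⟩
    rw [← hc]
    simp [Algebra.smul_def]
  -- a point where the image of `h₀` is generated multiplicatively
  let R₀ : Subalgebra A Ω := (h₀.comp C₀.val).range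
  haveI : Finite R₀ := ((himg h₀).subset (by rintro _ ⟨x, rfl⟩; exact ⟨x, rfl⟩)).to_subtype
  haveI := Fintype.ofFinite R₀
  letI : Field R₀ := Fintype.fieldOfDomain R₀
  obtain ⟨γ, hγ⟩ := IsCyclic.exists_generator (α := R₀ˣ)
  have hsep : ∀ h : C →ₐ[A] Ω, h ∈ S → ¬(∀ x : C₀, h₀ x.1 = 0 → h x.1 = 0) →
      ∃ x : C₀, h x.1 = 0 ∧ h₀ x.1 ≠ 0 := by
    intro h hh hk
    push Not at hk
    obtain ⟨x, hx0, hx⟩ := hk
    obtain ⟨i, j, hij, hp⟩ : ∃ i j : ℕ, i < j ∧ h x.1 ^ i = h x.1 ^ j := by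
      haveI := (himg h).to_subtype
      obtain ⟨i, j, hne', hp⟩ := Finite.exists_ne_map_eq_of_infinite
        fun k : ℕ => (⟨h (x ^ k : C₀).1, x ^ k, rfl⟩ : Set.range fun z : C₀ => h z.1)
      have hp' : h x.1 ^ i = h x.1 ^ j := by simpa using congrArg Subtype.val hp
      rcases lt_or_gt_of_ne hne' with hl | hl
      exacts [⟨i, j, hl, hp'⟩, ⟨j, i, hl, hp'.symm⟩]
    refine ⟨x ^ (j - i) - 1, ?_, ?_⟩
    · have : h x.1 ^ i * (h x.1 ^ (j - i) - 1) = 0 := by
        rw [mul_sub, ← pow_add, Nat.add_sub_cancel' hij.le, hp, mul_one, sub_self]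
      rcases mul_eq_zero.mp this with h1 | h1
      · exact absurd h1 (pow_ne_zero _ hx)
      · simpa using h1
    · simp [hx0, zero_pow (Nat.sub_ne_zero_of_lt hij)]
  let T : Set (C →ₐ[A] Ω) := {h ∈ S | ¬∀ x : C₀, h₀ x.1 = 0 → h x.1 = 0}
  have hT : T.Finite := hS.subset fun h hh => hh.1
  choose! v hv using hsep
  let E : C₀ := ∏ h ∈ hT.toFinset, v h
  have hE0 : h₀ E.1 ≠ 0 := by
    simp only [E, SubmonoidClass.coe_finsetProd, map_prod, Finset.prod_ne_zero_iff]
    exact fun h hh => (hv h (hT.mem_toFinset.mp hh).1 (hT.mem_toFinset.mp hh).2).2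
  have hEh : ∀ h ∈ T, h E.1 = 0 := fun h hh => by
    simp only [E, SubmonoidClass.coe_finsetProd, map_prod]
    exact Finset.prod_eq_zero (hT.mem_toFinset.mpr hh) (hv h hh.1 hh.2).1
  let ε : R₀ := ⟨h₀ E.1, E, rfl⟩
  obtain ⟨c, hc⟩ : ((γ : R₀) / ε : R₀).1 ∈ R₀ := Subtype.prop _
  let θ : C₀ := c * E
  have hθ : h₀ θ.1 = (γ : R₀).1 := by
    have hε : ε ≠ 0 := fun h => hE0 (congrArg Subtype.val h)
    have := congrArg Subtype.val (div_mul_cancel₀ (γ : R₀) hε)
    rw [← this]
    simp [θ, ε, ← hc]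
  refine ⟨θ.1, fun h hh he => ?_⟩
  by_cases hk : ∀ x : C₀, h₀ x.1 = 0 → h x.1 = 0
  · refine hw h hh ?_
    let x : C₀ := ⟨w h, Algebra.subset_adjoin (Set.mem_image_of_mem w hh)⟩
    by_cases hx : h₀ x.1 = 0
    · change h x.1 = h₀ x.1
      rw [hx, hk x hx]
    · have hx' : (⟨h₀ x.1, x, rfl⟩ : R₀) ≠ 0 := fun e => hx (congrArg Subtype.val e)
      obtain ⟨m, hm⟩ := mem_powers_iff_mem_zpowers.mpr (hγ (Units.mk0 _ hx'))
      have hm' : h₀ θ.1 ^ m = h₀ x.1 := by
        rw [hθ]
        simpa using congrArg (fun u : R₀ˣ => (u : R₀).1) hm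
      have := hk (x - θ ^ m) (by simp [hm'])
      change h x.1 = h₀ x.1
      rw [← hm', ← he]
      simpa [sub_eq_zero] using this
  · refine Units.ne_zero γ (Subtype.ext ?_)
    rw [← hθ, ← he]
    simp [θ, hEh h ⟨hh, hk⟩]

/-- Finitely many algebra homomorphisms from an integral algebra to a domain, all different from
`h₀`, are told apart from `h₀` by a single element. -/
theorem exists_separating [Algebra.IsIntegral A C] (h₀ : C →ₐ[A] Ω) (S : Set (C →ₐ[A] Ω))
    (hS : S.Finite) (hne : ∀ h ∈ S, h ≠ h₀) : ∃ θ : C, ∀ h ∈ S, h θ ≠ h₀ θ := by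
  by_cases hA : (Set.range (algebraMap A Ω)).Finite
  exacts [exists_separating_finite hA h₀ S hS hne, exists_separating_infinite hA h₀ S hS hne]

end Groth.Agent.Inertia9494
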